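import Mathlib

/-!
# The lifted eigenvalue sum of an endomorphism and the cuspidal function obtained from it

For a function `θ` on an extension field `K` of the finite field `F`, `liftSum θ f` is the sum of
`θ` over the eigenvalues in `K` of `f`, and `cusp θ f` is determined by
`liftSum θ f = ∑ cusp θ (f|W)`, the sum running over the `f`-invariant subspaces `W`.
-/

set_option autoImplicit false
set_option linter.unusedSectionVars false
set_option linter.style.haveILetI false

namespace CfsgLib.GLCuspidal

open Polynomial Module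

section LiftSum

variable {F : Type*} [Field F] {K : Type*} [Field K] [Algebra F K] (θ : K → ℂ)
variable {V V' : Type*} [AddCommGroup V] [Module F V] [FiniteDimensional F V]
variable [AddCommGroup V'] [Module F V'] [FiniteDimensional F V']

/-- The sum of `θ` over the roots of a polynomial in the extension. -/
noncomputable def rootSum (g : F[X]) : ℂ := ((g.map (algebraMap F K)).roots.map θ).sum

theorem rootSum_mul {g g' : F[X]} (hg : g ≠ 0) (hg' : g' ≠ 0) :
    rootSum θ (g * g') = rootSum θ g + rootSum θ g' := by
  rw [rootSum, rootSum, rootSum, Polynomial.map_mul,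
    roots_mul (mul_ne_zero (Polynomial.map_ne_zero hg) (Polynomial.map_ne_zero hg')),
    Multiset.map_add, Multiset.sum_add]

theorem rootSum_one : rootSum θ (1 : F[X]) = 0 := by simp [rootSum]

theorem rootSum_pow {g : F[X]} (hg : g ≠ 0) (l : ℕ) : rootSum θ (g ^ l) = l * rootSum θ g := by
  induction l with
  | zero => simp [rootSum_one]
  | succ l ih =>
    rw [pow_succ, rootSum_mul θ (pow_ne_zero _ hg) hg, ih]
    push_cast
    ring

/-- The sum of `θ` over the eigenvalues. -/
noncomputable def liftSum (f : Module.End F V) : ℂ := rootSum θ f.charpoly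

theorem liftSum_conj (e : V ≃ₗ[F] V') (f : Module.End F V) :
    liftSum θ (e.conjAlgEquiv F f) = liftSum θ f := by
  rw [liftSum, liftSum]
  exact congrArg _ (LinearEquiv.charpoly_conj e f)

/-- The characteristic polynomial is multiplicative along an invariant subspace. -/
theorem charpoly_split (f : Module.End F V) (W : Submodule F V) (hW : W ≤ W.comap f) :
    f.charpoly = LinearMap.charpoly (f.restrict hW) * (W.mapQ W f hW).charpoly := by
  classical
  let bW := Module.Free.chooseBasis F W
  let bQ := Module.Free.chooseBasis F (V ⧸ W)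
  let b := Basis.sumQuot bW bQ
  suffices LinearMap.toMatrix b b f = Matrix.fromBlocks (LinearMap.toMatrix bW bW (f.restrict hW))
      (Matrix.of fun i l => (b.repr (f (b (Sum.inr l)))) (Sum.inl i)) 0
      (LinearMap.toMatrix bQ bQ (W.mapQ W f hW)) by
    rw [← LinearMap.charpoly_toMatrix f b, this, Matrix.charpoly_fromBlocks_zero₂₁,
      LinearMap.charpoly_toMatrix, LinearMap.charpoly_toMatrix]
  ext u v
  cases u with
  | inl i =>
    cases v with
    | inl k =>
      simp only [b, Basis.sumQuot_inl, Matrix.fromBlocks_apply₁₁, LinearMap.toMatrix_apply]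
      apply Basis.sumQuot_repr_inl_of_mem
    | inr l => simp [b, LinearMap.toMatrix_apply, Matrix.fromBlocks_apply₁₂]
  | inr j =>
    cases v with
    | inl k =>
      suffices W.mkQ (f (bW k)) = 0 by simp [LinearMap.toMatrix_apply, b, this]
      rw [← LinearMap.mem_ker, Submodule.ker_mkQ]
      exact hW (Submodule.coe_mem (bW k))
    | inr l =>
      simp only [LinearMap.toMatrix_apply, Basis.sumQuot_repr_inr,
        Matrix.fromBlocks_apply₂₂, b]
      rw [← Basis.sumQuot_inr bW bQ l, W.mapQ_apply]
      simp

theorem liftSum_split (f : Module.End F V) (W : Submodule F V) (hW : W ≤ W.comap f) :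
    liftSum θ f = liftSum θ (f.restrict hW : Module.End F W) + liftSum θ (W.mapQ W f hW) := by
  rw [liftSum, charpoly_split f W hW,
    rootSum_mul θ (LinearMap.charpoly_monic _).ne_zero (LinearMap.charpoly_monic _).ne_zero]
  rfl

theorem liftSum_of_finrank_zero (f : Module.End F V) (h : finrank F V = 0) : liftSum θ f = 0 := by
  have h1 : f.charpoly = 1 := by
    refine eq_one_of_monic_natDegree_zero (LinearMap.charpoly_monic f) ?_
    rw [LinearMap.charpoly_natDegree, h]
  rw [liftSum, h1, rootSum_one]

end LiftSum

section Cusp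

variable {F : Type*} [Field F] [Finite F] {K : Type*} [Field K] [Algebra F K] (θ : K → ℂ)
variable {V V' : Type*} [AddCommGroup V] [Module F V] [FiniteDimensional F V]
variable [AddCommGroup V'] [Module F V'] [FiniteDimensional F V']

/-- Invariance of a subspace. -/
abbrev Inv (f : Module.End F V) (W : Submodule F V) : Prop := W ≤ W.comap f

open Classical in
/-- The restriction to an invariant subspace (zero otherwise). -/
noncomputable def rst (f : Module.End F V) (W : Submodule F V) : Module.End F W :=
  if h : Inv f W then f.restrict h else 0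

theorem rst_of_inv {f : Module.End F V} {W : Submodule F V} (h : Inv f W) :
    rst f W = f.restrict h := dif_pos h

theorem rst_apply {f : Module.End F V} {W : Submodule F V} (h : Inv f W) (x : W) :
    (rst f W x : V) = f x := by rw [rst_of_inv h]; rfl

theorem finite_space (F V : Type*) [Field F] [Finite F] [AddCommGroup V] [Module F V]
    [FiniteDimensional F V] : Finite V := Module.finite_of_finite F

theorem finite_submodule (F V : Type*) [Field F] [Finite F] [AddCommGroup V] [Module F V]
    [FiniteDimensional F V] : Finite (Submodule F V) := by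
  haveI := finite_space F V
  exact Finite.of_injective _ SetLike.coe_injective

/-- The invariant subspaces. -/
noncomputable def invSub (f : Module.End F V) : Finset (Submodule F V) :=
  haveI := finite_submodule F V
  (Set.toFinite {W : Submodule F V | Inv f W}).toFinset

theorem mem_invSub {f : Module.End F V} {W : Submodule F V} : W ∈ invSub f ↔ Inv f W := by
  simp [invSub]

/-- The cuspidal function on coordinate spaces. -/
noncomputable def cuspCoord : (k : ℕ) → Module.End F (Fin k → F) → ℂ
  | k, f => liftSum θ f - ∑ W ∈ invSub f,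
      if h : finrank F W < k then
        cuspCoord (finrank F W) ((Module.finBasis F W).equivFun.conjAlgEquiv F (rst f W))
      else 0
  termination_by k => k
  decreasing_by exact h

/-- The cuspidal function. -/
noncomputable def cusp (f : Module.End F V) : ℂ :=
  cuspCoord θ (finrank F V) ((Module.finBasis F V).equivFun.conjAlgEquiv F f)

theorem inv_map {e : V ≃ₗ[F] V'} {f : Module.End F V} {W : Submodule F V} :
    Inv (e.conjAlgEquiv F f) (W.map (e : V →ₗ[F] V')) ↔ Inv f W := by
  constructor
  · intro h x hx
    have h1 : e.conjAlgEquiv F f (e x) ∈ W.map (e : V →ₗ[F] V') :=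
      h (Submodule.mem_map_of_mem hx)
    obtain ⟨y, hy, hy'⟩ := h1
    have : y = f x := e.injective (by simpa using hy')
    rw [this] at hy
    exact hy
  · rintro h y ⟨x, hx, rfl⟩
    have : e.conjAlgEquiv F f (e x) = e (f x) := by simp
    rw [Submodule.mem_comap, LinearEquiv.coe_coe, this]
    exact Submodule.mem_map_of_mem (h hx)

theorem sum_invSub_map {M : Type*} [AddCommMonoid M] (e : V ≃ₗ[F] V') (f : Module.End F V)
    (G : Submodule F V' → M) :
    ∑ W ∈ invSub (e.conjAlgEquiv F f), G W = ∑ W ∈ invSub f, G (W.map (e : V →ₗ[F] V')) := by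
  symm
  refine Finset.sum_bij (fun W _ => W.map (e : V →ₗ[F] V'))
    (fun W hW => mem_invSub.2 (inv_map.2 (mem_invSub.1 hW)))
    (fun a _ b _ h => Submodule.map_injective_of_injective e.injective h)
    (fun W' hW' => ⟨W'.comap (e : V →ₗ[F] V'), mem_invSub.2 ?_,
      Submodule.map_comap_eq_of_surjective e.surjective _⟩) (fun _ _ => rfl)
  rw [← inv_map (e := e), Submodule.map_comap_eq_of_surjective e.surjective]
  exact mem_invSub.1 hW'

theorem rst_map {e : V ≃ₗ[F] V'} {f : Module.End F V} {W : Submodule F V} (h : Inv f W) :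
    rst (e.conjAlgEquiv F f) (W.map (e : V →ₗ[F] V'))
      = (e.submoduleMap W).conjAlgEquiv F (rst f W) := by
  refine LinearMap.ext fun y => Subtype.ext ?_
  obtain ⟨x, rfl⟩ := (e.submoduleMap W).surjective y
  rw [rst_apply (inv_map.2 h)]
  simp [rst_apply h]

theorem cuspCoord_conj : ∀ (k k' : ℕ) (e : (Fin k → F) ≃ₗ[F] (Fin k' → F))
    (f : Module.End F (Fin k → F)), cuspCoord θ k' (e.conjAlgEquiv F f) = cuspCoord θ k f := by
  intro k
  induction k using Nat.strong_induction_on with
  | _ k ih =>
  intro k' e f
  have hk : k = k' := by simpa using e.finrank_eq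
  rw [cuspCoord, cuspCoord, liftSum_conj, sum_invSub_map]
  congr 1
  refine Finset.sum_congr rfl fun W hW => ?_
  have hd : finrank F W = finrank F (W.map (e : (Fin k → F) →ₗ[F] (Fin k' → F))) :=
    (e.submoduleMap W).finrank_eq
  by_cases h : finrank F W < k
  · rw [dif_pos h, dif_pos (hd ▸ hk ▸ h), rst_map (mem_invSub.1 hW),
      ← ih _ h _ (((Module.finBasis F W).equivFun.symm.trans (e.submoduleMap W)).trans
        (Module.finBasis F _).equivFun) ((Module.finBasis F W).equivFun.conjAlgEquiv F (rst f W))]
    congr 1
    refine LinearMap.ext fun x => ?_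
    simp
  · rw [dif_neg h, dif_neg (hd ▸ hk ▸ h)]

theorem cusp_conj (e : V ≃ₗ[F] V') (f : Module.End F V) :
    cusp θ (e.conjAlgEquiv F f) = cusp θ f := by
  rw [cusp, cusp, ← cuspCoord_conj θ _ _
    (((Module.finBasis F V).equivFun.symm.trans e).trans (Module.finBasis F V').equivFun)
    ((Module.finBasis F V).equivFun.conjAlgEquiv F f)]
  congr 1
  refine LinearMap.ext fun x => ?_
  simp

open Classical in
/-- The recursion. -/
theorem cusp_eq (f : Module.End F V) :
    cusp θ f = liftSum θ f - ∑ W ∈ (invSub f).filter (· ≠ ⊤), cusp θ (rst f W) := by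
  obtain ⟨e, he⟩ : ∃ e : V ≃ₗ[F] (Fin (finrank F V) → F), e = (Module.finBasis F V).equivFun :=
    ⟨_, rfl⟩
  conv_lhs => rw [cusp, ← he, cuspCoord]
  rw [liftSum_conj, sum_invSub_map, Finset.sum_filter]
  congr 1
  refine Finset.sum_congr rfl fun W hW => ?_
  have hd : finrank F W = finrank F (W.map (e : V →ₗ[F] (Fin (finrank F V) → F))) :=
    (e.submoduleMap W).finrank_eq
  by_cases htop : W = ⊤
  · have h : ¬ finrank F (W.map (e : V →ₗ[F] (Fin (finrank F V) → F))) < finrank F V := by
      subst htop
      rw [← hd, finrank_top]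
      exact lt_irrefl _
    rw [dif_neg h, if_neg (not_not.2 htop)]
  · rw [dif_pos (hd ▸ Submodule.finrank_lt htop), if_pos htop, rst_map (mem_invSub.1 hW),
      ← cusp_conj θ (e.submoduleMap W) (rst f W)]
    rfl

theorem cusp_rst_top (f : Module.End F V) : cusp θ (rst f ⊤) = cusp θ f := by
  rw [← cusp_conj θ Submodule.topEquiv (rst f ⊤)]
  congr 1
  refine LinearMap.ext fun x => ?_
  simp [rst_apply (show Inv f (⊤ : Submodule F V) from le_top)]

open Classical in
/-- The lifted sum is the sum of the cuspidal function over the invariant subspaces. -/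
theorem liftSum_eq_sum (f : Module.End F V) :
    liftSum θ f = ∑ W ∈ invSub f, cusp θ (rst f W) := by
  rw [← Finset.sum_filter_add_sum_filter_not (invSub f) (· ≠ ⊤)]
  have h1 : (invSub f).filter (fun W => ¬ W ≠ ⊤) = {⊤} := by
    ext W
    simp only [ne_eq, not_not, Finset.mem_filter, mem_invSub, Finset.mem_singleton]
    exact ⟨fun h => h.2, fun h => ⟨h ▸ le_top, h⟩⟩
  rw [h1, Finset.sum_singleton, cusp_rst_top, cusp_eq θ f]
  ring

open Classical in
theorem cusp_of_finrank_zero (f : Module.End F V) (h : finrank F V = 0) : cusp θ f = 0 := by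
  haveI : Subsingleton V := finrank_zero_iff.1 h
  rw [cusp_eq θ f, liftSum_of_finrank_zero θ f h,
    Finset.filter_false_of_mem (fun W _ h' => h' (Subsingleton.elim _ _))]
  simp

theorem cusp_rst_bot (f : Module.End F V) : cusp θ (rst f ⊥) = 0 :=
  cusp_of_finrank_zero θ _ (finrank_bot F V)

end Cusp

end CfsgLib.GLCuspidal
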